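import Groth.Agent.S4454
import Groth.Agent.Catenary.SerreNormal
import Groth.Agent.RegDual.Scheme
import Groth.Agent.Rigid.DimDrop
import Groth.Agent.WeilLib.Trdeg

/-!
# Regular models of integral proper curves
-/

set_option autoImplicit false
set_option linter.style.haveILetI false
set_option backward.isDefEq.respectTransparency false

universe u

open CategoryTheory CategoryTheory.Limits AlgebraicGeometry TopologicalSpace Opposite

noncomputable section

namespace Groth.Agent.W7Nef

theorem ringKrullDim_stalk_of_isClosed {X : Scheme.{u}} [IsIntegral X] (hdim : topologicalKrullDim X = 1)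
    {x : X} (hx : IsClosed ({x} : Set X)) : ringKrullDim (X.presheaf.stalk x) = 1 := by
  refine le_antisymm ((RegDual.ringKrullDim_stalk_le_topologicalKrullDim x).trans hdim.le) ?_
  rw [ringKrullDim_stalk_eq_coheight]
  have hne : x ≠ genericPoint X := fun h => by
    subst h
    have h1 : (Set.univ : Set X) = {genericPoint X} := by
      rw [← hx.closure_eq]; exact (genericPoint_spec X).def.symm
    haveI : Subsingleton X := ⟨fun a b => by
      rw [Set.mem_singleton_iff.mp (h1.le (Set.mem_univ a)), Set.mem_singleton_iff.mp (h1.le (Set.mem_univ b))]⟩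
    have := topologicalKrullDim_zero_of_discreteTopology X
    rw [hdim] at this
    exact absurd this (by decide)
  letI := specializationOrder X
  have hlt : x < genericPoint X :=
    (lt_of_le_of_ne (show x ≤ genericPoint X from (genericPoint_spec X).specializes (Set.mem_univ x)) hne : x < genericPoint X)
  have h1 := Order.coheight_add_one_le hlt
  have h2 : (1 : ℕ∞) ≤ Order.coheight x := le_trans le_add_self h1
  exact_mod_cast h2

/-- Every integral proper curve is finitely covered by a regular one, generically. -/
theorem exists_regular_model (k : Type u) [Field k] (C : Scheme.{u}) [C.Over (Spec (CommRingCat.of k))]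
    [IsProper (C ↘ Spec (CommRingCat.of k))] [IsIntegral C] (hdim : topologicalKrullDim C = 1) :
    ∃ (C' : Scheme.{u}) (ν : C' ⟶ C) (_ : IsIntegral C'),
      IsProper (ν ≫ (C ↘ Spec (CommRingCat.of k))) ∧ topologicalKrullDim C' = 1 ∧
      (∀ x : C', IsRegularLocalRing (C'.presheaf.stalk x)) ∧ ν (genericPoint C') = genericPoint C := by
  let fC := C ↘ Spec (CommRingCat.of k)
  letI : Field (C.presheaf.stalk (genericPoint C)) := inferInstanceAs (Field C.functionField)
  let g : Spec (CommRingCat.of C.functionField) ⟶ C :=
    Spec.map (CommRingCat.ofHom (RingHom.id C.functionField)) ≫ C.fromSpecStalk (genericPoint C)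
  haveI : QuasiCompact (g ≫ fC) := inferInstance
  haveI : QuasiSeparated (g ≫ fC) := inferInstance
  haveI : QuasiCompact g := QuasiCompact.of_comp g fC
  haveI : QuasiSeparated g := QuasiSeparated.of_comp g fC
  obtain ⟨hfin, hnorm, -⟩ := Groth.Agent.S4454.result k C (fun x hx => ringKrullDim_stalk_of_isClosed hdim hx)
    C.functionField (RingHom.id _) (RingHom.Finite.id _) g rfl
  let ν := g.fromNormalization
  haveI : IsIntegral (Spec (CommRingCat.of C.functionField)) := inferInstance
  haveI : IsFinite ν := hfin
  haveI : IsProper (ν ≫ fC) := inferInstance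
  haveI : LocallyOfFiniteType (ν ≫ fC) := inferInstance
  have hpt : ν (g.toNormalization (IsLocalRing.closedPoint C.functionField)) = genericPoint C := by
    rw [← Scheme.Hom.comp_apply, g.toNormalization_fromNormalization]
    show C.fromSpecStalk (genericPoint C) (Spec.map (CommRingCat.ofHom (RingHom.id C.functionField))
      (IsLocalRing.closedPoint C.functionField)) = _
    rw [show CommRingCat.ofHom (RingHom.id C.functionField) = 𝟙 (CommRingCat.of C.functionField) from rfl, Spec.map_id]
    exact Scheme.fromSpecStalk_closedPoint
  have hgen : ν (genericPoint g.normalization) = genericPoint C := by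
    have h1 := ((genericPoint_spec g.normalization).specializes
      (Set.mem_univ (g.toNormalization (IsLocalRing.closedPoint C.functionField)))).map ν.continuous
    rw [hpt] at h1
    exact (h1.antisymm ((genericPoint_spec C).specializes (Set.mem_univ _))).eq
  have hdeg : ν.residueDegree (genericPoint g.normalization) ≠ 0 :=
    Rigid.residueDegree_ne_zero_of_quasiFiniteAt ν (ν.quasiFiniteAt _)
  have hp : WeilCoh.pdim C (genericPoint C) = 1 := by
    rw [WeilCoh.pdim, WeilCoh.natDim, (genericPoint_spec C).def,
      show topologicalKrullDim (Set.univ : Set C) = topologicalKrullDim C from (Homeomorph.Set.univ C).isHomeomorph.topologicalKrullDim_eq, hdim]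
    rfl
  have hdim' : topologicalKrullDim g.normalization = 1 := by
    have h := Groth.Agent.Rigid.topologicalKrullDim_eq_pdim (k := k) (p := ν ≫ fC)
    rw [← WeilLib.pdim_eq_of_residueDegree_ne_zero (ν ≫ fC) ν fC rfl hdeg, hgen, hp] at h
    exact h
  refine ⟨g.normalization, ν, inferInstance, inferInstance, hdim', fun x => ?_, hgen⟩
  haveI := (hnorm x).1
  haveI := (hnorm x).2
  haveI : IsLocallyNoetherian g.normalization := LocallyOfFiniteType.isLocallyNoetherian (ν ≫ fC)
  exact Catenary.isRegularLocalRing_of_normal ((RegDual.ringKrullDim_stalk_le_topologicalKrullDim x).trans hdim'.le)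

/-- A dominant map between integral curves has finite generic residue extension. -/
theorem residueDegree_pos (k : Type u) [Field k] {X C : Scheme.{u}} [X.Over (Spec (CommRingCat.of k))]
    [IsProper (X ↘ Spec (CommRingCat.of k))] [IsIntegral X] [IsIntegral C] (h : X ⟶ C) [LocallyOfFiniteType h]
    (hh : IsClosedMap h) (hX : topologicalKrullDim X = 1) (hC : topologicalKrullDim C = 1)
    (hξ : h (genericPoint X) = genericPoint C) : 0 < h.residueDegree (genericPoint X) := by
  let fX := X ↘ Spec (CommRingCat.of k)
  have hp : WeilCoh.pdim X (genericPoint X) = 1 := by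
    have h1 := Groth.Agent.Rigid.topologicalKrullDim_eq_pdim (k := k) (p := fX)
    rw [hX] at h1
    exact_mod_cast h1.symm
  have hpre : ∀ w : X, h w = genericPoint C → w = genericPoint X := fun w hw => by
    by_contra hne
    have hlt := WeilLib.pdim_lt fX ((genericPoint_spec X).specializes (Set.mem_univ w)) hne
    have hc : IsClosed ({w} : Set X) := (WeilLib.pdim_eq_zero_iff fX w).1 (by omega)
    have hc' := hh _ hc
    rw [Set.image_singleton, hw] at hc'
    have h1 : (Set.univ : Set C) = {genericPoint C} := by
      rw [← hc'.closure_eq]; exact (genericPoint_spec C).def.symm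
    haveI : Subsingleton C := ⟨fun a b => by
      rw [Set.mem_singleton_iff.mp (h1.le (Set.mem_univ a)), Set.mem_singleton_iff.mp (h1.le (Set.mem_univ b))]⟩
    have := topologicalKrullDim_zero_of_discreteTopology C
    rw [hC] at this
    exact absurd this (by decide)
  haveI : Subsingleton (h.fiber (h (genericPoint X))) := ⟨fun a b => by
    have key : ∀ c : h.fiber (h (genericPoint X)), h.fiberι _ c = genericPoint X := fun c => hpre _ (by
      have : h.fiberι (h (genericPoint X)) c ∈ h ⁻¹' {h (genericPoint X)} := by
        rw [← Scheme.Hom.range_fiberι]; exact ⟨c, rfl⟩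
      rw [← hξ]; exact this)
    exact (h.fiberι _).isEmbedding.injective ((key a).trans (key b).symm)⟩
  exact Nat.pos_of_ne_zero (Rigid.residueDegree_ne_zero_of_quasiFiniteAt h (Rigid.quasiFiniteAt_of_fiber_dim h _
    (topologicalKrullDim_zero_of_discreteTopology _)))

end Groth.Agent.W7Nef
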